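import Cfsg.Agent.H212.HT.C2Rel
import Cfsg.Agent.H528.HT.Frame

/-!
# Frames of five anticommuting involutions: the number of involutions (S3540, S3577, task C2; helper212)

`inv_fx`, `inv_count` (at most 310), `inv_count'` (less than 290 without the scalar `√-1`).
-/

set_option autoImplicit false
set_option linter.unusedSectionVars false

namespace Cfsg.Agent.H212.HT

open Cfsg.Agent.H828.HT Cfsg.Agent.H662.HT Equiv
open Cfsg.Agent.H528.HT (scalar_of_comm card_fx_anti)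

universe u

variable {p : ℕ} [Fact p.Prime] {M : Type u} [AddCommGroup M] [Module (ZMod p) M] [Finite M]
  {t : Fin 5 → (M ≃ₗ[ZMod p] M)}

/-- a scalar of square 1 is `± 1` -/
theorem scalar_sq {c : ZMod p} (h : c * c = 1) : c = 1 ∨ c = -1 := mul_self_eq_one_iff.1 h

theorem smul_eq_iff (hM : Nat.card M = p ^ 4) {c d : ZMod p} (h : ∀ v : M, c • v = d • v) : c = d := by
  obtain ⟨v, hv⟩ := exists_ne (p := p) hM
  have h2 : (c - d) • v = 0 := by rw [sub_smul, h, sub_self]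
  exact sub_eq_zero.1 ((smul_eq_zero.1 h2).resolve_right hv)

theorem smul_sq (hM : Nat.card M = p ^ 4) {y : M ≃ₗ[ZMod p] M} (hy : y * y = 1) {c : ZMod p}
    (h : ∀ v, y v = c • v) : c * c = 1 := by
  refine smul_eq_iff hM fun v => ?_
  have h1 : y (y v) = v := congrArg (fun f : M ≃ₗ[ZMod p] M => f v) hy
  rw [h, h, smul_smul] at h1
  rw [h1, one_smul]

/-- no element of `Inv P` is a scalar -/
theorem inv_not_scalar (hM : Nat.card M = p ^ 4) {P : Subgroup (M ≃ₗ[ZMod p] M)} {y : M ≃ₗ[ZMod p] M}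
    (hy : y ∈ H662.HT.Inv P) {c : ZMod p} (h : ∀ v, y v = c • v) : False := by
  obtain ⟨-, h1, h2, v, hv⟩ := hy
  rcases scalar_sq (smul_sq hM h1 h) with rfl | rfl
  · apply h2
    ext w
    rw [h, one_smul]
    rfl
  · apply hv
    rw [h, neg_smul, one_smul]

theorem inv_good (hp : 3 ≤ p) (ht : Frame5 t) (hM : Nat.card M = p ^ 4) {P : Subgroup (M ≃ₗ[ZMod p] M)}
    {y : M ≃ₗ[ZMod p] M} (hy : y ∈ H662.HT.Inv P) {x : Perm (Fin 5) × (Fin 5 → ℤˣ)} (h : Rel t y x) : Good x := by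
  refine ⟨(h.sq hp ht hM hy.2.1).1, (h.sq hp ht hM hy.2.1).2, h.prod hp ht hM, ?_⟩
  rintro rfl
  obtain ⟨c, hc⟩ := scalar_of_comm hp ht hM y fun k v => by
    rw [h]
    exact one_smul _ _
  exact inv_not_scalar hM hy hc

/-- C2 -/
theorem inv_fx (hp : 3 ≤ p) {t : Fin 5 → (M ≃ₗ[ZMod p] M)} (ht : Frame5 t) (hM : Nat.card M = p ^ 4)
    {P : Subgroup (M ≃ₗ[ZMod p] M)} (hn : Norm5 t P) {y : M ≃ₗ[ZMod p] M} (hy : y ∈ H662.HT.Inv P) :
    Nat.card (fx y) = p ^ 2 := by
  obtain ⟨x, hx⟩ := exists_rel hp ht hM (hn y hy.1)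
  obtain ⟨g1, g2, -, g4⟩ := inv_good hp ht hM hy hx
  have key : ∃ n : M ≃ₗ[ZMod p] M, ∀ v, n (y v) = -(y (n v)) := by
    by_cases hσ : x.1 = 1
    · have h1 : ∃ k, x.2 k = -1 := by
        by_contra hcon
        push Not at hcon
        apply g4
        refine Prod.ext hσ (funext fun k => ?_)
        exact (Int.units_eq_one_or _).resolve_right (hcon k)
      obtain ⟨k, hk⟩ := h1
      refine ⟨t k, fun v => ?_⟩
      have h2 := hx k v
      rw [hσ, hk, Units.neg_smul, one_smul, Perm.one_apply] at h2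
      rw [h2, neg_neg]
    · have h1 : ∃ k, x.1 k ≠ k := by
        by_contra hcon
        push Not at hcon
        exact hσ (Equiv.ext hcon)
      obtain ⟨k, hk⟩ := h1
      have h2 : x.1 (x.1 k) = k := congrArg (fun f : Perm (Fin 5) => f k) g1
      refine ⟨t k * t (x.1 k), fun v => ?_⟩
      change t k (t (x.1 k) (y v)) = -(y (t k (t (x.1 k) v)))
      have e1 : y (t k (t (x.1 k) v)) = t (x.1 k) (t k (y v)) := by
        rw [hx, hx, h2, map_us, smul_smul, g2, one_smul]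
      rw [e1, t_anti ht (Ne.symm hk)]
  obtain ⟨n, hn'⟩ := key
  have h1 := card_fx_anti hp hy.2.1 hn'
  rw [hM, show p ^ 4 = (p ^ 2) ^ 2 by ring] at h1
  exact Nat.pow_left_injective (by norm_num : 2 ≠ 0) h1

/-- elements with the same signed permutation differ by a scalar -/
theorem rel_same (hp : 3 ≤ p) (ht : Frame5 t) (hM : Nat.card M = p ^ 4) {y z : M ≃ₗ[ZMod p] M}
    {x : Perm (Fin 5) × (Fin 5 → ℤˣ)} (hy : Rel t y x) (hz : Rel t z x) : ∃ c : ZMod p, ∀ v, z v = c • y v := by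
  obtain ⟨c, hc⟩ := scalar_of_comm hp ht hM (y⁻¹ * z) (by
    intro k v
    apply y.injective
    change y (y.symm (z (t k v))) = y (t k (y.symm (z v)))
    rw [y.apply_symm_apply, hy, y.apply_symm_apply, hz])
  refine ⟨c, fun v => ?_⟩
  have h1 := hc v
  change y.symm (z v) = c • v at h1
  rw [← map_smul, ← h1, y.apply_symm_apply]

/-- the fibres of the map to signed permutations have at most two elements -/
theorem exists_image (hp : 3 ≤ p) (ht : Frame5 t) (hM : Nat.card M = p ^ 4)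
    {P : Subgroup (M ≃ₗ[ZMod p] M)} (hn : Norm5 t P) :
    ∃ I : Finset (Perm (Fin 5) × (Fin 5 → ℤˣ)), (∀ x ∈ I, ∃ y ∈ H662.HT.Inv P, Rel t y x) ∧
      Nat.card (H662.HT.Inv P) ≤ 2 * I.card := by
  classical
  have hfin : (H662.HT.Inv P).Finite := Set.toFinite _
  let code : (M ≃ₗ[ZMod p] M) → Perm (Fin 5) × (Fin 5 → ℤˣ) := fun y =>
    if h : ∃ x, Rel t y x then h.choose else (1, 1)
  have hcode : ∀ y ∈ H662.HT.Inv P, Rel t y (code y) := by
    intro y hy
    have h := exists_rel hp ht hM (hn y hy.1)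
    have h1 : code y = h.choose := dif_pos h
    rw [h1]
    exact h.choose_spec
  refine ⟨hfin.toFinset.image code, ?_, ?_⟩
  · intro x hx
    obtain ⟨y, hy, rfl⟩ := Finset.mem_image.1 hx
    rw [Set.Finite.mem_toFinset] at hy
    exact ⟨y, hy, hcode y hy⟩
  · rw [Nat.card_coe_set_eq, Set.ncard_eq_toFinset_card _ hfin]
    refine Finset.card_le_mul_card_image _ 2 fun a ha => ?_
    obtain ⟨y, hy, rfl⟩ := Finset.mem_image.1 ha
    rw [Set.Finite.mem_toFinset] at hy
    refine (Finset.card_le_card (t := {y, y * LinearEquiv.neg (ZMod p)}) ?_).trans Finset.card_le_two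
    intro z hz
    rw [Finset.mem_filter, Set.Finite.mem_toFinset] at hz
    obtain ⟨hz, hzy⟩ := hz
    have h1 := hcode z hz
    rw [hzy] at h1
    obtain ⟨c, hc⟩ := rel_same hp ht hM (hcode y hy) h1
    have h2 : c * c = 1 := by
      refine smul_eq_iff hM fun v => ?_
      have h3 : z (z v) = v := congrArg (fun f : M ≃ₗ[ZMod p] M => f v) hz.2.1
      have h4 : y (y v) = v := congrArg (fun f : M ≃ₗ[ZMod p] M => f v) hy.2.1
      rw [hc, hc, map_smul, smul_smul, h4] at h3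
      rw [h3, one_smul]
    rw [Finset.mem_insert, Finset.mem_singleton]
    rcases scalar_sq h2 with rfl | rfl
    · left
      ext v
      rw [hc, one_smul]
    · right
      ext v
      rw [hc, neg_smul, one_smul]
      change -(y v) = y (-v)
      rw [map_neg]

/-- C2 -/
theorem inv_count (hp : 3 ≤ p) {t : Fin 5 → (M ≃ₗ[ZMod p] M)} (ht : Frame5 t) (hM : Nat.card M = p ^ 4)
    {P : Subgroup (M ≃ₗ[ZMod p] M)} (hn : Norm5 t P) : Nat.card (H662.HT.Inv P) ≤ 310 := by
  obtain ⟨I, hI, hc⟩ := exists_image hp ht hM hn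
  have h1 : I ⊆ goodSet := by
    intro x hx
    obtain ⟨y, hy, hyx⟩ := hI x hx
    exact mem_goodSet.2 (inv_good hp ht hM hy hyx)
  have h2 := Finset.card_le_card h1
  rw [card_good] at h2
  omega

/-! ### without the scalar `√-1` -/

/-- signs equal to `η` at `a`, `b` -/
def eps (a b : Fin 5) (η : ℤˣ) (s : Fin 5 → ℤˣ) : Fin 5 → ℤˣ := fun k => if k = a ∨ k = b then η else s k

/-- the sign `-1` at `c` only -/
def sg (c : Fin 5) : Fin 5 → ℤˣ := fun k => if k = c then -1 else 1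

theorem good_neg : ∀ (a b : Fin 5) (η : ℤˣ), a < b → Good (swap a b, eps a b η (-1)) := by
  decide +kernel

theorem good_sg : ∀ (a b c : Fin 5) (η : ℤˣ), a < b → c ≠ a → c ≠ b → Good (swap a b, eps a b η (sg c)) := by
  decide +kernel

theorem exists_three : ∀ a b : Fin 5, a ≠ b → ∃ c d e : Fin 5, c ≠ a ∧ c ≠ b ∧ d ≠ a ∧ d ≠ b ∧ e ≠ a ∧ e ≠ b ∧
    c ≠ d ∧ c ≠ e ∧ d ≠ e ∧ ∀ k, k = a ∨ k = b ∨ k = c ∨ k = d ∨ k = e := by
  decide +kernel

theorem swap_inj : ∀ a b a' b' : Fin 5, a < b → a' < b' → swap a b = swap a' b' → a = a' ∧ b = b' := by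
  decide +kernel

section

variable {a b c d e : Fin 5} {η : ℤˣ}

theorem rel_a {s : Fin 5 → ℤˣ} {y : M ≃ₗ[ZMod p] M} (h : Rel t y (swap a b, eps a b η s)) (v : M) :
    y (t a v) = η • t b (y v) := by
  have h1 := h a v
  simp only [swap_apply_left] at h1
  rw [h1]
  simp [eps]

theorem rel_b {s : Fin 5 → ℤˣ} {y : M ≃ₗ[ZMod p] M} (h : Rel t y (swap a b, eps a b η s)) (v : M) :
    y (t b v) = η • t a (y v) := by
  have h1 := h b v
  simp only [swap_apply_right] at h1
  rw [h1]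
  simp [eps]

theorem rel_c {s : Fin 5 → ℤˣ} {y : M ≃ₗ[ZMod p] M} (h : Rel t y (swap a b, eps a b η s)) (hca : c ≠ a)
    (hcb : c ≠ b) (v : M) : y (t c v) = s c • t c (y v) := by
  have h1 := h c v
  simp only [swap_apply_of_ne_of_ne hca hcb] at h1
  rw [h1]
  simp [eps, hca, hcb]

theorem pair_scalar (hp : 3 ≤ p) (ht : Frame5 t) (hM : Nat.card M = p ^ 4) (hca : c ≠ a) (hcb : c ≠ b)
    (hda : d ≠ a) (hdb : d ≠ b) (hea : e ≠ a) (heb : e ≠ b) (hcd : c ≠ d) (hce : c ≠ e) (hde : d ≠ e)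
    (hall : ∀ k, k = a ∨ k = b ∨ k = c ∨ k = d ∨ k = e) {y z : M ≃ₗ[ZMod p] M}
    (hy : y * y = 1) (hz : z * z = 1) (ry : Rel t y (swap a b, eps a b η (-1)))
    (rz : Rel t z (swap a b, eps a b η (sg c))) :
    ∃ γ : ZMod p, γ * γ = -1 ∧ ∀ v, z (y v) = γ • t d (t e v) := by
  have hyy : ∀ v, y (y v) = v := fun v => congrArg (fun f : M ≃ₗ[ZMod p] M => f v) hy
  have hzz : ∀ v, z (z v) = v := fun v => congrArg (fun f : M ≃ₗ[ZMod p] M => f v) hz
  have hηη : η * η = 1 := Int.units_mul_self η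
  have r1 : Rel t (z * y) (1, fun k => if k = d ∨ k = e then -1 else 1) := by
    intro k v
    change z (y (t k v)) = (if k = d ∨ k = e then (-1 : ℤˣ) else 1) • t k (z (y v))
    rcases hall k with rfl | rfl | rfl | rfl | rfl
    · rw [rel_a ry, map_us, rel_b rz, smul_smul, hηη, if_neg (by tauto)]
    · rw [rel_b ry, map_us, rel_a rz, smul_smul, hηη, if_neg (by tauto)]
    · rw [rel_c ry hca hcb, map_us, rel_c rz hca hcb, smul_smul, if_neg (by tauto)]
      simp [sg]
    · rw [rel_c ry hda hdb, map_us, rel_c rz hda hdb, smul_smul, if_pos (by tauto)]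
      simp [sg, hcd.symm]
    · rw [rel_c ry hea heb, map_us, rel_c rz hea heb, smul_smul, if_pos (by tauto)]
      simp [sg, hce.symm]
  have r2 : Rel t (t d * t e) (1, fun k => if k = d ∨ k = e then -1 else 1) := by
    intro k v
    change t d (t e (t k v)) = (if k = d ∨ k = e then (-1 : ℤˣ) else 1) • t k (t d (t e v))
    by_cases hkd : k = d
    · subst hkd
      rw [if_pos (by tauto), t_anti ht hde.symm, map_neg, Units.neg_smul, one_smul]
    · by_cases hke : k = e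
      · subst hke
        rw [if_pos (by tauto), t_sq ht, Units.neg_smul, one_smul, t_anti ht hkd, t_sq ht, neg_neg]
      · rw [if_neg (by tauto), one_smul, t_anti ht (Ne.symm hke), map_neg, t_anti ht (Ne.symm hkd), neg_neg]
  obtain ⟨γ, hγ⟩ := rel_same hp ht hM r2 r1
  have hγ' : ∀ v, z (y v) = γ • t d (t e v) := hγ
  refine ⟨γ, ?_, hγ'⟩
  have h1 : ∀ v, y (z v) = γ • t d (t e v) := by
    intro v
    have h2 := hγ' (y v)
    rw [hyy] at h2
    rw [h2, map_smul, rel_c ry hda hdb, rel_c ry hea heb, hyy, map_us, smul_smul]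
    simp
  have h2 : ∀ v : M, (-(γ * γ)) • v = (1 : ZMod p) • v := by
    intro v
    have h3 := hγ' (y (z v))
    rw [hyy, hzz, h1, map_smul, map_smul, smul_smul, t_anti ht hde.symm, t_sq ht, map_neg, t_sq ht] at h3
    rw [neg_smul, one_smul]
    nth_rewrite 2 [h3]
    rw [smul_neg]
  have h3 := smul_eq_iff hM h2
  rw [← h3, neg_neg]

end

/-- C2 -/
theorem inv_count' (hp : 3 ≤ p) {t : Fin 5 → (M ≃ₗ[ZMod p] M)} (ht : Frame5 t) (hM : Nat.card M = p ^ 4)
    {P : Subgroup (M ≃ₗ[ZMod p] M)} (hn : Norm5 t P)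
    (hi : ∀ g ∈ P, ∀ c : ZMod p, (∀ v : M, g v = c • v) → c * c ≠ -1) : Nat.card (H662.HT.Inv P) < 290 := by
  classical
  obtain ⟨I, hI, hc⟩ := exists_image hp ht hM hn
  have h1 : I ⊆ goodSet := by
    intro x hx
    obtain ⟨y, hy, hyx⟩ := hI x hx
    exact mem_goodSet.2 (inv_good hp ht hM hy hyx)
  have key : ∀ (a b : Fin 5) (η : ℤˣ), a < b → ∃ x ∈ goodSet \ I, x.1 = swap a b ∧ x.2 a = η := by
    intro a b η hab
    by_contra hcon
    push Not at hcon
    obtain ⟨c, d, e, hca, hcb, hda, hdb, hea, heb, hcd, hce, hde, hall⟩ := exists_three a b hab.ne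
    have hex : ∀ s : Fin 5 → ℤˣ, Good (swap a b, eps a b η s) →
        ∃ y ∈ H662.HT.Inv P, Rel t y (swap a b, eps a b η s) := by
      intro s hs
      apply hI
      by_contra hI'
      exact hcon _ (Finset.mem_sdiff.2 ⟨mem_goodSet.2 hs, hI'⟩) rfl (by simp [eps])
    obtain ⟨y, hy, ry⟩ := hex (-1) (good_neg a b η hab)
    obtain ⟨z₁, hz₁, rz₁⟩ := hex (sg c) (good_sg a b c η hab hca hcb)
    obtain ⟨z₂, hz₂, rz₂⟩ := hex (sg d) (good_sg a b d η hab hda hdb)
    obtain ⟨z₃, hz₃, rz₃⟩ := hex (sg e) (good_sg a b e η hab hea heb)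
    obtain ⟨γ₁, g1, e1⟩ := pair_scalar hp ht hM hca hcb hda hdb hea heb hcd hce hde hall hy.2.1 hz₁.2.1 ry rz₁
    obtain ⟨γ₂, g2, e2⟩ := pair_scalar hp ht hM hda hdb hca hcb hea heb hcd.symm hde hce
      (fun k => by have := hall k; tauto) hy.2.1 hz₂.2.1 ry rz₂
    obtain ⟨γ₃, g3, e3⟩ := pair_scalar hp ht hM hea heb hca hcb hda hdb hce.symm hde.symm hcd
      (fun k => by have := hall k; tauto) hy.2.1 hz₃.2.1 ry rz₃
    refine hi ((z₁ * y) * (z₂ * y) * (z₃ * y))
      (P.mul_mem (P.mul_mem (P.mul_mem hz₁.1 hy.1) (P.mul_mem hz₂.1 hy.1)) (P.mul_mem hz₃.1 hy.1))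
      (-(γ₁ * γ₂ * γ₃)) ?_ ?_
    · intro v
      change z₁ (y (z₂ (y (z₃ (y v))))) = _
      rw [e3, e2, e1]
      simp only [map_smul, smul_smul]
      have e4 : t d (t e (t c (t e (t c (t d v))))) = -v := by
        rw [t_anti ht hce.symm, map_neg, t_sq ht, t_sq ht, t_sq ht]
      rw [e4, smul_neg, neg_smul, mul_assoc]
    · linear_combination γ₂ * γ₂ * γ₃ * γ₃ * g1 - γ₃ * γ₃ * g2 + g3
  choose! f hf1 hf2 hf3 using key
  let J : Finset ((Fin 5 × Fin 5) × ℤˣ) := (Finset.univ.filter fun q : Fin 5 × Fin 5 => q.1 < q.2) ×ˢ Finset.univ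
  have hJ : J.card = 20 := by decide
  have hle : J.card ≤ (goodSet \ I).card := by
    refine Finset.card_le_card_of_injOn (fun q => f q.1.1 q.1.2 q.2) ?_ ?_
    · rintro ⟨⟨a, b⟩, η⟩ hq
      have hab : a < b := by
        have := (Finset.mem_product.1 (Finset.mem_coe.1 hq)).1
        exact (Finset.mem_filter.1 this).2
      exact hf1 a b η hab
    · rintro ⟨⟨a, b⟩, η⟩ hq ⟨⟨a', b'⟩, η'⟩ hq' h
      have hab : a < b := by
        have := (Finset.mem_product.1 (Finset.mem_coe.1 hq)).1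
        exact (Finset.mem_filter.1 this).2
      have hab' : a' < b' := by
        have := (Finset.mem_product.1 (Finset.mem_coe.1 hq')).1
        exact (Finset.mem_filter.1 this).2
      have h' : f a b η = f a' b' η' := h
      have h3 := hf2 a b η hab
      rw [h', hf2 a' b' η' hab'] at h3
      obtain ⟨rfl, rfl⟩ := swap_inj a b a' b' hab hab' h3.symm
      have h4 := hf3 a b η hab
      rw [h', hf3 a b η' hab] at h4
      rw [h4]
  rw [Finset.card_sdiff_of_subset h1, card_good, hJ] at hle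
  have h2 := Finset.card_le_card h1
  rw [card_good] at h2
  omega

end Cfsg.Agent.H212.HT
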