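import Cfsg.Agent.H662.HT.Frame

/-!
# Frames of five anticommuting involutions: signed permutations (S3540, S3577, task C2; helper212)

`Rel t y (σ, ε)` : `y` maps `t k` to `ε k • t (σ k)` by conjugation.  For an involution `y`: `σ² = 1`,
`ε k * ε (σ k) = 1`, `∏ ε * sign σ = 1` (`Rel.sq`, `Rel.prod`).  There are 155 nontrivial pairs (`card_good`).
-/

set_option autoImplicit false
set_option linter.unusedSectionVars false

namespace Cfsg.Agent.H212.HT

open Cfsg.Agent.H828.HT Cfsg.Agent.H662.HT Equiv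

universe u

variable {p : ℕ} [Fact p.Prime] {M : Type u} [AddCommGroup M] [Module (ZMod p) M] [Finite M]

theorem two_ne (hp : 3 ≤ p) : (2 : ZMod p) ≠ 0 := by
  intro h
  have h1 : ((2 : ℕ) : ZMod p) = 0 := by exact_mod_cast h
  rw [ZMod.natCast_eq_zero_iff] at h1
  have := Nat.le_of_dvd (by norm_num) h1
  omega

theorem eq_zero_of_neg (hp : 3 ≤ p) {v : M} (h : v = -v) : v = 0 := by
  have h1 : (2 : ZMod p) • v = 0 := by
    rw [two_smul]
    nth_rewrite 2 [h]
    exact add_neg_cancel v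
  exact (smul_eq_zero.1 h1).resolve_left (two_ne hp)

theorem eq_one_of_smul (hp : 3 ≤ p) {u : ℤˣ} {v : M} (hv : v ≠ 0) (h : v = u • v) : u = 1 := by
  rcases Int.units_eq_one_or u with h1 | h1
  · exact h1
  · exfalso
    rw [h1, Units.neg_smul, one_smul] at h
    exact hv (eq_zero_of_neg hp h)

theorem map_us (f : M ≃ₗ[ZMod p] M) (u : ℤˣ) (v : M) : f (u • v) = u • f v := by
  rcases Int.units_eq_one_or u with rfl | rfl
  · rw [one_smul, one_smul]
  · rw [Units.neg_smul, one_smul, Units.neg_smul, one_smul, map_neg]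

theorem exists_ne (hM : Nat.card M = p ^ 4) : ∃ v : M, v ≠ 0 := by
  have h1 : 1 < Nat.card M := by
    rw [hM]
    exact Nat.one_lt_pow (by norm_num) (Fact.out : p.Prime).one_lt
  have := Finite.one_lt_card_iff_nontrivial.1 h1
  exact _root_.exists_ne 0

variable {t : Fin 5 → (M ≃ₗ[ZMod p] M)}

theorem t_sq (ht : Frame5 t) (k : Fin 5) (v : M) : t k (t k v) = v := by
  have := congrArg (fun f : M ≃ₗ[ZMod p] M => f v) (ht.sq k)
  exact this

theorem t_anti (ht : Frame5 t) {j k : Fin 5} (h : j ≠ k) (v : M) : t j (t k v) = -(t k (t j v)) := ht.anti j k h v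

theorem no_sign (hp : 3 ≤ p) (ht : Frame5 t) (hM : Nat.card M = p ^ 4) {j k : Fin 5} {u : ℤˣ}
    (h : ∀ v : M, t j v = u • t k v) : j = k := by
  by_contra hjk
  obtain ⟨v, hv⟩ := exists_ne (p := p) hM
  have h1 := t_anti ht hjk v
  rw [h, t_sq ht, h v, map_us, t_sq ht] at h1
  have h2 := eq_zero_of_neg hp h1
  have h3 : v = 0 := by
    have := congrArg (fun w => u • w) h2
    simpa [smul_smul] using this
  exact hv h3

/-- `y` acts on the frame by the signed permutation `x` -/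
def Rel (t : Fin 5 → (M ≃ₗ[ZMod p] M)) (y : M ≃ₗ[ZMod p] M) (x : Perm (Fin 5) × (Fin 5 → ℤˣ)) : Prop :=
  ∀ k, ∀ v : M, y (t k v) = x.2 k • t (x.1 k) (y v)

theorem exists_rel (hp : 3 ≤ p) (ht : Frame5 t) (hM : Nat.card M = p ^ 4) {y : M ≃ₗ[ZMod p] M}
    (hy : ∀ k, ∃ j, (∀ v : M, y (t k v) = t j (y v)) ∨ (∀ v : M, y (t k v) = -(t j (y v)))) :
    ∃ x, Rel t y x := by
  have h1 : ∀ k, ∃ j, ∃ u : ℤˣ, ∀ v : M, y (t k v) = u • t j (y v) := by
    intro k
    obtain ⟨j, h | h⟩ := hy k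
    · exact ⟨j, 1, fun v => by rw [one_smul]; exact h v⟩
    · exact ⟨j, -1, fun v => by rw [Units.neg_smul, one_smul]; exact h v⟩
  choose σ ε hσ using h1
  have hinj : Function.Injective σ := by
    intro j k hjk
    refine no_sign hp ht hM (u := ε j * (ε k)⁻¹) fun v => ?_
    apply y.injective
    rw [hσ, map_us, hσ, hjk, smul_smul]
    congr 1
    rw [mul_assoc, inv_mul_cancel, mul_one]
  exact ⟨(Equiv.ofBijective σ (Finite.injective_iff_bijective.1 hinj), ε), fun k v => hσ k v⟩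

theorem Rel.sq (hp : 3 ≤ p) (ht : Frame5 t) (hM : Nat.card M = p ^ 4) {y : M ≃ₗ[ZMod p] M}
    {x : Perm (Fin 5) × (Fin 5 → ℤˣ)} (h : Rel t y x) (hy : y * y = 1) :
    x.1 * x.1 = 1 ∧ ∀ k, x.2 k * x.2 (x.1 k) = 1 := by
  have hyy : ∀ v, y (y v) = v := fun v => congrArg (fun f : M ≃ₗ[ZMod p] M => f v) hy
  have key : ∀ k, ∀ v : M, t k v = (x.2 k * x.2 (x.1 k)) • t (x.1 (x.1 k)) v := by
    intro k v
    have h1 := hyy (t k v)
    rw [h, map_us, h, hyy, smul_smul] at h1
    exact h1.symm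
  have h1 : ∀ k, x.1 (x.1 k) = k := fun k => (no_sign hp ht hM (key k)).symm
  refine ⟨Equiv.ext h1, fun k => ?_⟩
  obtain ⟨v, hv⟩ := exists_ne (p := p) hM
  have h2 := key k v
  rw [h1] at h2
  refine eq_one_of_smul hp ?_ h2
  intro h0
  exact hv ((LinearEquiv.map_eq_zero_iff _).1 h0)

/-- the product of the `t k` in the order given by `τ` -/
def pr (t : Fin 5 → (M ≃ₗ[ZMod p] M)) (τ : Perm (Fin 5)) (v : M) : M :=
  t (τ 0) (t (τ 1) (t (τ 2) (t (τ 3) (t (τ 4) v))))

theorem pr_mul (ht : Frame5 t) (σ : Perm (Fin 5)) :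
    ∀ (τ : Perm (Fin 5)) (v : M), pr t (τ * σ) v = Perm.sign σ • pr t τ v := by
  have h1 : σ ∈ Submonoid.closure (Set.range fun i : Fin 4 => Equiv.swap i.castSucc i.succ) := by
    rw [Equiv.Perm.mclosure_swap_castSucc_succ]
    trivial
  induction h1 using Submonoid.closure_induction with
  | mem x hx =>
    obtain ⟨i, rfl⟩ := hx
    intro τ v
    have hne : ∀ {a b : Fin 5}, a ≠ b → τ a ≠ τ b := fun hab h => hab (τ.injective h)
    rw [Perm.sign_swap (Fin.castSucc_lt_succ).ne, Units.neg_smul, one_smul]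
    fin_cases i
    · have e0 : (Equiv.swap (0 : Fin 5) 1) 0 = 1 := by decide
      have e1 : (Equiv.swap (0 : Fin 5) 1) 1 = 0 := by decide
      have e2 : (Equiv.swap (0 : Fin 5) 1) 2 = 2 := by decide
      have e3 : (Equiv.swap (0 : Fin 5) 1) 3 = 3 := by decide
      have e4 : (Equiv.swap (0 : Fin 5) 1) 4 = 4 := by decide
      change pr t (τ * Equiv.swap (0 : Fin 5) 1) v = _
      simp only [pr, Perm.mul_apply, e0, e1, e2, e3, e4]
      rw [t_anti ht (hne (by decide))]
    · have e0 : (Equiv.swap (1 : Fin 5) 2) 0 = 0 := by decide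
      have e1 : (Equiv.swap (1 : Fin 5) 2) 1 = 2 := by decide
      have e2 : (Equiv.swap (1 : Fin 5) 2) 2 = 1 := by decide
      have e3 : (Equiv.swap (1 : Fin 5) 2) 3 = 3 := by decide
      have e4 : (Equiv.swap (1 : Fin 5) 2) 4 = 4 := by decide
      change pr t (τ * Equiv.swap (1 : Fin 5) 2) v = _
      simp only [pr, Perm.mul_apply, e0, e1, e2, e3, e4]
      rw [t_anti ht (hne (show (2 : Fin 5) ≠ 1 by decide)), map_neg]
    · have e0 : (Equiv.swap (2 : Fin 5) 3) 0 = 0 := by decide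
      have e1 : (Equiv.swap (2 : Fin 5) 3) 1 = 1 := by decide
      have e2 : (Equiv.swap (2 : Fin 5) 3) 2 = 3 := by decide
      have e3 : (Equiv.swap (2 : Fin 5) 3) 3 = 2 := by decide
      have e4 : (Equiv.swap (2 : Fin 5) 3) 4 = 4 := by decide
      change pr t (τ * Equiv.swap (2 : Fin 5) 3) v = _
      simp only [pr, Perm.mul_apply, e0, e1, e2, e3, e4]
      rw [t_anti ht (hne (show (3 : Fin 5) ≠ 2 by decide)), map_neg, map_neg]
    · have e0 : (Equiv.swap (3 : Fin 5) 4) 0 = 0 := by decide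
      have e1 : (Equiv.swap (3 : Fin 5) 4) 1 = 1 := by decide
      have e2 : (Equiv.swap (3 : Fin 5) 4) 2 = 2 := by decide
      have e3 : (Equiv.swap (3 : Fin 5) 4) 3 = 4 := by decide
      have e4 : (Equiv.swap (3 : Fin 5) 4) 4 = 3 := by decide
      change pr t (τ * Equiv.swap (3 : Fin 5) 4) v = _
      simp only [pr, Perm.mul_apply, e0, e1, e2, e3, e4]
      rw [t_anti ht (hne (show (4 : Fin 5) ≠ 3 by decide)), map_neg, map_neg, map_neg]
  | one => intro τ v; rw [mul_one, map_one, one_smul]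
  | mul x y _ _ hx hy =>
    intro τ v
    rw [← mul_assoc, hy, hx, map_mul, smul_smul, mul_comm]

theorem Rel.prod (hp : 3 ≤ p) (ht : Frame5 t) (hM : Nat.card M = p ^ 4) {y : M ≃ₗ[ZMod p] M}
    {x : Perm (Fin 5) × (Fin 5 → ℤˣ)} (h : Rel t y x) : (∏ k, x.2 k) * Perm.sign x.1 = 1 := by
  have h1 : ∀ v, y (pr t 1 v) = (∏ k, x.2 k) • pr t x.1 (y v) := by
    intro v
    simp only [pr, Perm.one_apply, h _ _, map_us, smul_smul]
    congr 1
    simp [Fin.prod_univ_succ]
  have h2 : ∃ c : ℤˣ, ∀ v, pr t 1 v = c • v := by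
    rcases ht.prod with h | h
    · exact ⟨1, fun v => by rw [one_smul]; exact h v⟩
    · exact ⟨-1, fun v => by rw [Units.neg_smul, one_smul]; exact h v⟩
  obtain ⟨c, hc⟩ := h2
  obtain ⟨v, hv⟩ := exists_ne (p := p) hM
  have h3 := h1 v
  have h4 := pr_mul ht x.1 1 (y v)
  rw [one_mul] at h4
  rw [h4, hc, hc, map_us, smul_smul, smul_smul, mul_comm _ c, ← smul_smul] at h3
  have h5 : y v = ((∏ k, x.2 k) * Perm.sign x.1) • y v := by
    have := congrArg (fun w => c • w) h3
    simpa [smul_smul, ← mul_assoc] using this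
  refine eq_one_of_smul hp ?_ h5
  intro h0
  exact hv ((LinearEquiv.map_eq_zero_iff _).1 h0)

/-- the signed permutations of the involutions -/
def Good (x : Perm (Fin 5) × (Fin 5 → ℤˣ)) : Prop :=
  x.1 * x.1 = 1 ∧ (∀ k, x.2 k * x.2 (x.1 k) = 1) ∧ (∏ k, x.2 k) * Perm.sign x.1 = 1 ∧ x ≠ (1, 1)

instance : DecidablePred Good := fun x => by unfold Good; infer_instance

/-- the set of the signed permutations of the involutions -/
def goodSet : Finset (Perm (Fin 5) × (Fin 5 → ℤˣ)) := Finset.univ.filter Good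

theorem card_good : goodSet.card = 155 := by
  decide +kernel

theorem mem_goodSet {x : Perm (Fin 5) × (Fin 5 → ℤˣ)} : x ∈ goodSet ↔ Good x := by
  unfold goodSet
  simp

attribute [irreducible] goodSet

end Cfsg.Agent.H212.HT
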