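import Cfsg.Agent.H662.HT.Sym

/-!
# Groups of symplectic type: adding a square root of `-1` (S3540, S3577, task C4; helper212)
-/

set_option autoImplicit false
set_option linter.unusedSectionVars false

open scoped commutatorElement

namespace Cfsg.Agent.H212.HT

open Cfsg.Agent.H662.HT

universe u

variable {p : ℕ} [Fact p.Prime] {M : Type u} [AddCommGroup M] [Module (ZMod p) M] [Finite M] {a : ℕ}
  {N : Subgroup (M ≃ₗ[ZMod p] M)} {i : M ≃ₗ[ZMod p] M}

theorem eq_zero_of_neg' (h2 : ¬ 2 ∣ Nat.card M) {v : M} (h : v = -v) : v = 0 := by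
  have h1 : 2 • v = 0 := by
    rw [two_nsmul]
    nth_rewrite 2 [h]
    exact add_neg_cancel v
  have h3 : addOrderOf v ∣ 2 := addOrderOf_dvd_of_nsmul_eq_zero h1
  have h4 : addOrderOf v ∣ Nat.card M := addOrderOf_dvd_natCard v
  rcases (Nat.dvd_prime Nat.prime_two).1 h3 with h5 | h5
  · exact AddMonoid.addOrderOf_eq_one_iff.1 h5
  · rw [h5] at h4
    exact absurd h4 h2

/-- the centre of order 2 is generated by `-1` -/
theorem center_neg (H : Sym 2 a N M) (hz : Nat.card (Subgroup.center N) = 2) :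
    ∃ z : M ≃ₗ[ZMod p] M, z ∈ N ∧ (∀ v, z v = -v) ∧ ∀ x : N, x ∈ Subgroup.center N → x = 1 ∨ (x : M ≃ₗ[ZMod p] M) = z := by
  have hfin := H.fin
  have hsq : ∀ x ∈ Subgroup.center N, x * x = 1 := by
    intro x hx
    have h1 : (⟨x, hx⟩ : Subgroup.center N) ^ Nat.card (Subgroup.center N) = 1 := pow_card_eq_one'
    rw [hz, pow_two] at h1
    exact congrArg Subtype.val h1
  have hneg : ∀ x ∈ Subgroup.center N, x ≠ 1 → ∀ v, (x : M ≃ₗ[ZMod p] M) v = -v := by
    intro x hx hx1 v
    have h1 : x • (v + x • v) = v + x • v := by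
      rw [smul_add, smul_smul, hsq x hx, one_smul, add_comm]
    have h2 := H.semi x hx hx1 _ h1
    have h3 : v + (x : M ≃ₗ[ZMod p] M) v = 0 := h2
    exact (neg_eq_of_add_eq_zero_right h3).symm
  obtain ⟨⟨z, hzc⟩, hz1⟩ : ∃ z : Subgroup.center N, z ≠ 1 := by
    have h1 : Nontrivial (Subgroup.center N) := Finite.one_lt_card_iff_nontrivial.1 (by rw [hz]; norm_num)
    exact exists_ne 1
  have hz1' : z ≠ 1 := fun h => hz1 (Subtype.ext h)
  refine ⟨z, z.2, hneg z hzc hz1', fun x hx => ?_⟩
  by_cases h : x = 1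
  · exact Or.inl h
  · right
    ext v
    rw [hneg x hx h, hneg z hzc hz1']

/-- C4 -/
theorem sym_ext (H : Sym 2 a N M) (hz : Nat.card (Subgroup.center N) = 2)
    (hi : ∀ v : M, i (i v) = -v) (hc : ∀ x ∈ N, i * x = x * i) :
    Sym 2 a (N ⊔ Subgroup.zpowers i : Subgroup (M ≃ₗ[ZMod p] M)) M ∧
      Full 2 (N ⊔ Subgroup.zpowers i : Subgroup (M ≃ₗ[ZMod p] M)) := by
  obtain ⟨z, hzN, hzv, hzc⟩ := center_neg H hz
  have h2 := H.cop
  have hnt := H.nt
  have hii : i * i = z := by
    ext v
    rw [hzv]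
    exact hi v
  have hzz : z * z = 1 := by
    ext v
    change z (z v) = v
    rw [hzv, hzv, neg_neg]
  have hz1 : z ≠ 1 := by
    obtain ⟨v, hv⟩ := exists_ne (0 : M)
    intro h
    apply hv
    apply eq_zero_of_neg' h2
    have := hzv v
    rw [h] at this
    exact this
  have hzcen : ∀ x : M ≃ₗ[ZMod p] M, z * x = x * z := by
    intro x
    ext v
    change z (x v) = x (z v)
    rw [hzv, hzv, map_neg]
  have hcen : ∀ (n : M ≃ₗ[ZMod p] M) (hn : n ∈ N), (∀ m ∈ N, m * n = n * m) → n = 1 ∨ n = z := by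
    intro n hn h
    have h1 : (⟨n, hn⟩ : N) ∈ Subgroup.center N := by
      rw [Subgroup.mem_center_iff]
      intro m
      exact Subtype.ext (h m m.2)
    rcases hzc _ h1 with h3 | h3
    · exact Or.inl (congrArg Subtype.val h3)
    · exact Or.inr h3
  have hiN : i ∉ N := by
    intro h
    rcases hcen i h (fun m hm => (hc m hm).symm) with h1 | h1
    · rw [h1, one_mul] at hii
      exact hz1 hii.symm
    · rw [h1, hzz] at hii
      exact hz1 hii.symm
  have hinv : i⁻¹ = z * i := by
    rw [inv_eq_iff_mul_eq_one, ← mul_assoc, ← hzcen, mul_assoc, hii, hzz]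
  set K : Subgroup (M ≃ₗ[ZMod p] M) := N ⊔ Subgroup.zpowers i with hK
  have hNK : N ≤ K := le_sup_left
  have hiK : i ∈ K := (le_sup_right : Subgroup.zpowers i ≤ K) (Subgroup.mem_zpowers i)
  -- elements of `K`
  have mem : ∀ x, x ∈ K ↔ ∃ n ∈ N, x = n ∨ x = n * i := by
    let K' : Subgroup (M ≃ₗ[ZMod p] M) :=
      { carrier := {x | ∃ n ∈ N, x = n ∨ x = n * i}
        mul_mem' := by
          rintro x y ⟨n, hn, h1 | h1⟩ ⟨m, hm, h2 | h2⟩
          · exact ⟨n * m, N.mul_mem hn hm, Or.inl (by rw [h1, h2])⟩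
          · exact ⟨n * m, N.mul_mem hn hm, Or.inr (by rw [h1, h2, mul_assoc])⟩
          · exact ⟨n * m, N.mul_mem hn hm, Or.inr (by rw [h1, h2, mul_assoc, hc m hm, mul_assoc])⟩
          · refine ⟨n * m * z, N.mul_mem (N.mul_mem hn hm) hzN, Or.inl ?_⟩
            rw [h1, h2, ← hii, mul_assoc, ← mul_assoc i m i, hc m hm, mul_assoc, mul_assoc]
        one_mem' := ⟨1, N.one_mem, Or.inl rfl⟩
        inv_mem' := by
          rintro x ⟨n, hn, h1 | h1⟩
          · exact ⟨n⁻¹, N.inv_mem hn, Or.inl (by rw [h1])⟩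
          · refine ⟨n⁻¹ * z, N.mul_mem (N.inv_mem hn) hzN, Or.inr ?_⟩
            rw [h1, mul_inv_rev, hinv, mul_assoc, hc _ (N.inv_mem hn), ← mul_assoc, hzcen] }
    have hKK : K ≤ K' := by
      refine sup_le (fun n hn => ⟨n, hn, Or.inl rfl⟩) ?_
      rw [Subgroup.zpowers_le]
      exact ⟨1, N.one_mem, Or.inr (one_mul _).symm⟩
    intro x
    constructor
    · exact fun hx => hKK hx
    · rintro ⟨n, hn, h | h⟩
      · rw [h]; exact hNK hn
      · rw [h]; exact K.mul_mem (hNK hn) hiK
  have hcK : ∀ x ∈ K, i * x = x * i := by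
    intro x hx
    obtain ⟨n, hn, h | h⟩ := (mem x).1 hx
    · rw [h]; exact hc n hn
    · rw [h, ← mul_assoc, hc n hn]
  -- the centre
  have hcenK : ∀ x : K, x ∈ Subgroup.center K ↔ (x : M ≃ₗ[ZMod p] M) ∈ Subgroup.zpowers i := by
    intro x
    constructor
    · intro hx
      rw [Subgroup.mem_center_iff] at hx
      have hx' : ∀ m ∈ N, m * (x : M ≃ₗ[ZMod p] M) = x * m := fun m hm => congrArg Subtype.val (hx ⟨m, hNK hm⟩)
      obtain ⟨n, hn, h | h⟩ := (mem x).1 x.2
      · rw [h] at hx' ⊢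
        rcases hcen n hn hx' with h3 | h3
        · rw [h3]; exact Subgroup.one_mem _
        · rw [h3, ← hii]; exact Subgroup.mul_mem _ (Subgroup.mem_zpowers i) (Subgroup.mem_zpowers i)
      · rw [h] at hx' ⊢
        have h4 : ∀ m ∈ N, m * n = n * m := by
          intro m hm
          have h5 := hx' m hm
          rw [mul_assoc n i m, hc m hm, ← mul_assoc, ← mul_assoc] at h5
          exact mul_right_cancel h5
        rcases hcen n hn h4 with h3 | h3
        · rw [h3, one_mul]; exact Subgroup.mem_zpowers i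
        · rw [h3, ← hii]
          exact Subgroup.mul_mem _ (Subgroup.mul_mem _ (Subgroup.mem_zpowers i) (Subgroup.mem_zpowers i))
            (Subgroup.mem_zpowers i)
    · intro hx
      rw [Subgroup.mem_center_iff]
      intro y
      apply Subtype.ext
      obtain ⟨k, hk⟩ := Subgroup.mem_zpowers_iff.1 hx
      have h3 : Commute i (y : M ≃ₗ[ZMod p] M) := hcK y y.2
      have h4 := (h3.zpow_left k).eq
      rw [hk] at h4
      exact h4.symm
  have hmap : (Subgroup.center K).map K.subtype = Subgroup.zpowers i := by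
    ext x
    constructor
    · rintro ⟨y, hy, rfl⟩
      exact (hcenK y).1 hy
    · intro hx
      have hxK : x ∈ K := (le_sup_right : Subgroup.zpowers i ≤ K) hx
      exact ⟨⟨x, hxK⟩, (hcenK _).2 hx, rfl⟩
  have hord : orderOf i = 4 := by
    have h3 := orderOf_eq_prime_pow (p := 2) (n := 1) (x := i) (by rw [pow_one, pow_two, hii]; exact hz1)
      (by rw [show 2 ^ (1 + 1) = 2 * 2 by norm_num, pow_mul, pow_two, pow_two, hii, hzz])
    rw [h3]; norm_num
  have hcardc : Nat.card (Subgroup.center K) = 4 := by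
    rw [Nat.card_congr ((Subgroup.center K).equivMapOfInjective K.subtype K.subtype_injective).toEquiv, hmap,
      Nat.card_zpowers, hord]
  have hcardK : Nat.card K = Nat.card N * 2 := by
    have hf : Function.Bijective (fun q : N × Bool => (⟨q.1 * (if q.2 then i else 1), by
        rw [mem]
        refine ⟨q.1, q.1.2, ?_⟩
        cases q.2
        · left; simp
        · right; simp⟩ : K)) := by
      constructor
      · rintro ⟨n, b⟩ ⟨m, c⟩ h
        have h3 : (n : M ≃ₗ[ZMod p] M) * (if b then i else 1) = m * (if c then i else 1) := congrArg Subtype.val h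
        cases b <;> cases c
        · simp only [Bool.false_eq_true, if_false, mul_one] at h3
          exact Prod.ext (Subtype.ext h3) rfl
        · exfalso
          simp only [Bool.false_eq_true, if_false, mul_one, if_true] at h3
          apply hiN
          have h4 : i = (m : M ≃ₗ[ZMod p] M)⁻¹ * n := by rw [h3, inv_mul_cancel_left]
          rw [h4]
          exact N.mul_mem (N.inv_mem m.2) n.2
        · exfalso
          simp only [Bool.false_eq_true, if_false, mul_one, if_true] at h3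
          apply hiN
          have h4 : i = (n : M ≃ₗ[ZMod p] M)⁻¹ * m := by rw [← h3, inv_mul_cancel_left]
          rw [h4]
          exact N.mul_mem (N.inv_mem n.2) m.2
        · simp only [if_true] at h3
          exact Prod.ext (Subtype.ext (mul_right_cancel h3)) rfl
      · rintro ⟨x, hx⟩
        obtain ⟨n, hn, h | h⟩ := (mem x).1 hx
        · exact ⟨⟨⟨n, hn⟩, false⟩, Subtype.ext (by simp [h])⟩
        · exact ⟨⟨⟨n, hn⟩, true⟩, Subtype.ext (by simp [h])⟩
    rw [← Nat.card_eq_of_bijective _ hf, Nat.card_prod]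
    simp
  have hsqN : ∀ n ∈ N, n * n = 1 ∨ n * n = z := by
    intro n hn
    have h3 := H.exp ⟨n, hn⟩
    rcases hzc _ h3 with h4 | h4
    · left
      have h5 := congrArg Subtype.val h4
      rwa [pow_two] at h5
    · right
      rw [← h4, pow_two]
      rfl
  have hsqK : ∀ x ∈ K, x * x = 1 ∨ x * x = z := by
    intro x hx
    obtain ⟨n, hn, h | h⟩ := (mem x).1 hx
    · rw [h]; exact hsqN n hn
    · have h3 : x * x = n * n * z := by
        rw [h, ← hii, mul_assoc, ← mul_assoc i n i, hc n hn, mul_assoc, mul_assoc]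
      rcases hsqN n hn with h4 | h4
      · right; rw [h3, h4, one_mul]
      · left; rw [h3, h4, hzz]
  have hzz' : z ∈ Subgroup.zpowers i := by
    rw [← hii]; exact Subgroup.mul_mem _ (Subgroup.mem_zpowers i) (Subgroup.mem_zpowers i)
  have hfinG : Finite (M ≃ₗ[ZMod p] M) :=
    Finite.of_injective (fun g : M ≃ₗ[ZMod p] M => (g : M → M)) DFunLike.coe_injective
  refine ⟨⟨inferInstance, inferInstance, H.hs, H.ha, H.nt, H.cop, ?_, ?_, ?_, ?_, ?_⟩, ?_⟩
  · have e := (Subgroup.center K).equivMapOfInjective K.subtype K.subtype_injective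
    rw [hmap] at e
    exact isCyclic_of_surjective e.symm e.symm.surjective
  · intro x hx hx1 v hv
    have hv' : (x : M ≃ₗ[ZMod p] M) v = v := hv
    rcases hsqK x x.2 with h3 | h3
    · -- `x = z`
      have h4 := (hcenK x).1 hx
      obtain ⟨k, hk⟩ := Subgroup.mem_zpowers_iff.1 h4
      have h5 : (x : M ≃ₗ[ZMod p] M) = z := by
        obtain ⟨n, hn, h | h⟩ := (mem x).1 x.2
        · rw [Subgroup.mem_center_iff] at hx
          have hx' : ∀ m ∈ N, m * n = n * m := by
            intro m hm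
            have := congrArg Subtype.val (hx ⟨m, hNK hm⟩)
            rw [← h]; exact this
          rcases hcen n hn hx' with h6 | h6
          · exact absurd (Subtype.ext (h.trans h6)) hx1
          · exact h.trans h6
        · exfalso
          rw [Subgroup.mem_center_iff] at hx
          have hx' : ∀ m ∈ N, m * n = n * m := by
            intro m hm
            have h7 := congrArg Subtype.val (hx ⟨m, hNK hm⟩)
            have h8 : m * (x : M ≃ₗ[ZMod p] M) = x * m := h7
            rw [h, mul_assoc n i m, hc m hm, ← mul_assoc, ← mul_assoc] at h8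
            exact mul_right_cancel h8
          have h9 : n * n = 1 := by
            rcases hcen n hn hx' with h6 | h6
            · rw [h6, mul_one]
            · rw [h6, hzz]
          have h10 : (x : M ≃ₗ[ZMod p] M) * x = n * n * z := by
            rw [h, ← hii, mul_assoc, ← mul_assoc i n i, hc n hn, mul_assoc, mul_assoc]
          rw [h10, h9, one_mul] at h3
          exact hz1 h3
      rw [h5, hzv] at hv'
      exact eq_zero_of_neg' h2 hv'.symm
    · have h4 : ((x : M ≃ₗ[ZMod p] M) * x) v = v := by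
        change (x : M ≃ₗ[ZMod p] M) ((x : M ≃ₗ[ZMod p] M) v) = v
        rw [hv', hv']
      rw [h3, hzv] at h4
      exact eq_zero_of_neg' h2 h4.symm
  · intro x y
    rw [hcenK]
    have hcm : ∀ n ∈ N, ∀ m ∈ N, ⁅n, m⁆ ∈ Subgroup.zpowers i := by
      intro n hn m hm
      have h3 := H.comm ⟨n, hn⟩ ⟨m, hm⟩
      rcases hzc _ h3 with h4 | h4
      · have h5 : ⁅n, m⁆ = 1 := congrArg Subtype.val h4
        rw [h5]; exact Subgroup.one_mem _
      · have h5 : ⁅n, m⁆ = z := h4
        rw [h5]; exact hzz'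
    have hci : ∀ n m : M ≃ₗ[ZMod p] M, m ∈ K → ⁅n * i, m⁆ = ⁅n, m⁆ := by
      intro n m hm
      rw [commutatorElement_def, commutatorElement_def, mul_inv_rev, mul_assoc n i m, hcK m hm]
      group
    have hci' : ∀ n m : M ≃ₗ[ZMod p] M, n ∈ K → ⁅n, m * i⁆ = ⁅n, m⁆ := by
      intro n m hn
      rw [← inv_inj, commutatorElement_inv, commutatorElement_inv]
      exact hci m n hn
    obtain ⟨n, hn, h | h⟩ := (mem x).1 x.2
    · obtain ⟨m, hm, h' | h'⟩ := (mem y).1 y.2
      · change ⁅(x : M ≃ₗ[ZMod p] M), (y : M ≃ₗ[ZMod p] M)⁆ ∈ _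
        rw [h, h']; exact hcm n hn m hm
      · change ⁅(x : M ≃ₗ[ZMod p] M), (y : M ≃ₗ[ZMod p] M)⁆ ∈ _
        rw [h, h', hci' n m (hNK hn)]; exact hcm n hn m hm
    · obtain ⟨m, hm, h' | h'⟩ := (mem y).1 y.2
      · change ⁅(x : M ≃ₗ[ZMod p] M), (y : M ≃ₗ[ZMod p] M)⁆ ∈ _
        rw [h, h', hci n m (hNK hm)]; exact hcm n hn m hm
      · change ⁅(x : M ≃ₗ[ZMod p] M), (y : M ≃ₗ[ZMod p] M)⁆ ∈ _
        rw [h, h', hci n _ (K.mul_mem (hNK hm) hiK), hci' n m (hNK hn)]; exact hcm n hn m hm
  · intro x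
    rw [hcenK]
    change (x : M ≃ₗ[ZMod p] M) ^ 2 ∈ _
    rw [pow_two]
    rcases hsqK x x.2 with h3 | h3
    · rw [h3]; exact Subgroup.one_mem _
    · rw [h3]; exact hzz'
  · rw [hcardK, hcardc, H.card, hz]
    ring
  · intro x
    rcases hsqK x x.2 with h3 | h3
    · refine ⟨1, Subgroup.one_mem _, ?_⟩
      apply Subtype.ext
      rw [mul_one, pow_two]
      exact h3
    · refine ⟨⟨i, hiK⟩, (hcenK _).2 (Subgroup.mem_zpowers i), ?_⟩
      apply Subtype.ext
      rw [pow_two]
      change (x : M ≃ₗ[ZMod p] M) * i * (x * i) = 1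
      rw [mul_assoc, ← mul_assoc i x i, hcK x x.2, mul_assoc, ← mul_assoc, hii, h3, hzz]

end Cfsg.Agent.H212.HT
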